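import Mathlib
import Groth.Prelude.Def_SGA3b
import Groth.Agent.Lib.Helper6.MultType.Basic
import Groth.Agent.Lib.Helper6.Isotriv.GroupLike

/-!
# Gluing charts over a finite decomposition of the base (helper6)

If a ring `T` is decomposed by finitely many idempotents into pieces `T' j` and a Hopf algebra `X`
over `T` has charts `T' j ⊗ X ≃ (T' j)[Q]` with one and the same group `Q`, then `X ≃ T[Q]`.
-/

set_option autoImplicit false
set_option linter.unusedSectionVars false
set_option linter.unusedVariables false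
set_option linter.unusedSimpArgs false
set_option linter.style.haveILetI false
set_option linter.overlappingInstances false
set_option maxHeartbeats 800000
set_option synthInstance.maxHeartbeats 400000

universe u
open TensorProduct SGA3b Coalgebra
open Groth.Agent.Lib.Helper6.MultType Groth.Agent.Lib.Helper6.Isotriv

namespace Groth.Agent.Lib.Helper6.MTKer

section Sig

variable {T : Type u} [CommRing T] {T' : Type u} [CommRing T'] [Algebra T T'] (ε : T)
  (hsurj : Function.Surjective (algebraMap T T'))
  (hker : ∀ t : T, algebraMap T T' t = 0 → ε * t = 0)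

/-- `π t ↦ ε t`, as a function -/
noncomputable def sigFun (s : T') : T := ε * (hsurj s).choose

include hker in
lemma sigFun_eq (t : T) : sigFun ε hsurj (algebraMap T T' t) = ε * t := by
  have h := (hsurj (algebraMap T T' t)).choose_spec
  have h2 := hker ((hsurj (algebraMap T T' t)).choose - t) (by rw [map_sub, h, sub_self])
  unfold sigFun
  linear_combination h2

/-- `π t ↦ ε t`, as a linear map -/
noncomputable def sig : T' →ₗ[T] T where
  toFun := sigFun ε hsurj
  map_add' := by
    intro a b
    obtain ⟨a', rfl⟩ := hsurj a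
    obtain ⟨b', rfl⟩ := hsurj b
    rw [← map_add, sigFun_eq ε hsurj hker, sigFun_eq ε hsurj hker, sigFun_eq ε hsurj hker, mul_add]
  map_smul' := by
    intro c a
    obtain ⟨a', rfl⟩ := hsurj a
    rw [Algebra.smul_def, ← map_mul, sigFun_eq ε hsurj hker, sigFun_eq ε hsurj hker,
      RingHom.id_apply, smul_eq_mul]
    ring

lemma sig_one : sig ε hsurj hker 1 = ε := by
  have h := sigFun_eq ε hsurj hker 1
  rw [map_one, mul_one] at h
  exact h

include hsurj hker in
lemma smul_eq_zero_of_one_tmul {N : Type u} [AddCommGroup N] [Module T N] (x : N)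
    (h : (1 : T') ⊗ₜ[T] x = 0) : ε • x = 0 := by
  have h1 := congrArg (fun w => TensorProduct.lid T N ((sig ε hsurj hker).rTensor N w)) h
  simp only [LinearMap.rTensor_tmul, TensorProduct.lid_tmul, map_zero] at h1
  rw [sig_one] at h1
  exact h1

end Sig

/-- a finite decomposition of `T` into pieces `T' j` -/
structure PieceData (T : Type u) [CommRing T] (ι : Type u) [Fintype ι] (T' : ι → Type u)
    [∀ j, CommRing (T' j)] [∀ j, Algebra T (T' j)] where
  /-- the idempotents -/
  ε : ι → T
  hsum : ∑ j, ε j = 1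
  hsurj : ∀ j, Function.Surjective (algebraMap T (T' j))
  hker : ∀ j (t : T), algebraMap T (T' j) t = 0 → ε j * t = 0
  hone : ∀ j, algebraMap T (T' j) (ε j) = 1
  horth : ∀ j j', j ≠ j' → algebraMap T (T' j) (ε j') = 0

section Pieces

variable {T : Type u} [CommRing T] {ι : Type u} [Fintype ι] {T' : ι → Type u}
  [∀ j, CommRing (T' j)] [∀ j, Algebra T (T' j)] (D : PieceData T ι T')

include D in
lemma eq_zero_of_forall_algebraMap (t : T) (h : ∀ j, algebraMap T (T' j) t = 0) : t = 0 := by
  calc t = (∑ j, D.ε j) * t := by rw [D.hsum, one_mul]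
    _ = 0 := by
      rw [Finset.sum_mul]
      exact Finset.sum_eq_zero (fun j _ => D.hker j t (h j))

include D in
lemma eq_zero_of_forall_one_tmul {N : Type u} [AddCommGroup N] [Module T N] (x : N)
    (h : ∀ j, (1 : T' j) ⊗ₜ[T] x = 0) : x = 0 := by
  have h1 : x = ∑ j, D.ε j • x := by rw [← Finset.sum_smul, D.hsum, one_smul]
  rw [h1]
  apply Finset.sum_eq_zero
  intro j _
  exact smul_eq_zero_of_one_tmul (D.ε j) (D.hsurj j) (D.hker j) x (h j)

include D in
lemma eq_of_forall_one_tmul {N : Type u} [AddCommGroup N] [Module T N] (x y : N)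
    (h : ∀ j, (1 : T' j) ⊗ₜ[T] x = (1 : T' j) ⊗ₜ[T] y) : x = y := by
  rw [← sub_eq_zero]
  apply eq_zero_of_forall_one_tmul D
  intro j
  rw [TensorProduct.tmul_sub, h j, sub_self]

include D in
lemma groupLike_of_pieces {X : Type u} [CommRing X] [Bialgebra T X] (x : X)
    (h : ∀ j, IsGroupLikeElem (T' j) ((1 : T' j) ⊗ₜ[T] x)) : IsGroupLikeElem T x where
  counit_eq_one := by
    have h0 : counit (R := T) x - 1 = 0 := by
      apply eq_zero_of_forall_algebraMap D
      intro j
      have h2 := (h j).counit_eq_one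
      rw [counit_one_tmul] at h2
      rw [map_sub, h2, map_one, sub_self]
    exact sub_eq_zero.mp h0
  comul_eq_tmul_self := by
    apply eq_of_forall_one_tmul D
    intro j
    have h2 := (h j).comul_eq_tmul_self
    rw [comul_one_tmul, ← T₀_tmul, T₀_eq, T₀_eq] at h2
    exact (TensorProduct.AlgebraTensorModule.distribBaseChange T (T' j) X X).injective h2

lemma mapRingHom_surjective {T₁ T₂ : Type u} [CommRing T₁] [CommRing T₂] (f : T₁ →+* T₂)
    (hf : Function.Surjective f) (Q : Type u) [CommGroup Q] :
    Function.Surjective (MonoidAlgebra.mapRingHom Q f) := by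
  intro w
  induction w using MonoidAlgebra.induction_linear with
  | zero => exact ⟨0, map_zero _⟩
  | add x y hx hy =>
    obtain ⟨x', rfl⟩ := hx
    obtain ⟨y', rfl⟩ := hy
    exact ⟨x' + y', map_add _ _ _⟩
  | single q s =>
    obtain ⟨t, rfl⟩ := hf s
    exact ⟨MonoidAlgebra.single q t, MonoidAlgebra.mapRingHom_single _ _ _⟩

variable {X : Type u} [CommRing X] [HopfAlgebra T X] {Q : Type u} [CommGroup Q]
  (c : ∀ j, T' j ⊗[T] X ≃ₐc[T' j] MonoidAlgebra (T' j) Q)

include D in
lemma exists_one_tmul (j : ι) (w : T' j ⊗[T] X) : ∃ x : X, (1 : T' j) ⊗ₜ[T] x = w := by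
  induction w using TensorProduct.induction_on with
  | zero => exact ⟨0, TensorProduct.tmul_zero _ _⟩
  | tmul s x =>
    obtain ⟨t, rfl⟩ := D.hsurj j s
    refine ⟨t • x, ?_⟩
    rw [← TensorProduct.smul_tmul, Algebra.smul_def, mul_one]
  | add a b ha hb =>
    obtain ⟨a', rfl⟩ := ha
    obtain ⟨b', rfl⟩ := hb
    exact ⟨a' + b', TensorProduct.tmul_add _ _ _⟩

/-- a lift of the character `q` of the `j`-th chart -/
noncomputable def xq (j : ι) (q : Q) : X :=
  (exists_one_tmul D j ((c j).symm (MonoidAlgebra.single q 1))).choose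

lemma one_tmul_xq (j : ι) (q : Q) :
    (1 : T' j) ⊗ₜ[T] xq D c j q = (c j).symm (MonoidAlgebra.single q 1) :=
  (exists_one_tmul D j ((c j).symm (MonoidAlgebra.single q 1))).choose_spec

/-- the glued character `q` -/
noncomputable def chiE (q : Q) : X := ∑ j, D.ε j • xq D c j q

lemma one_tmul_chiE (j : ι) (q : Q) :
    (1 : T' j) ⊗ₜ[T] chiE D c q = (c j).symm (MonoidAlgebra.single q 1) := by
  classical
  unfold chiE
  rw [TensorProduct.tmul_sum, Finset.sum_eq_single j]
  · rw [← TensorProduct.smul_tmul, Algebra.smul_def, mul_one, D.hone, one_tmul_xq]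
  · intro j' _ hj'
    rw [← TensorProduct.smul_tmul, Algebra.smul_def, mul_one, D.horth j j' (Ne.symm hj'),
      TensorProduct.zero_tmul]
  · intro h
    exact absurd (Finset.mem_univ j) h

lemma chiE_groupLike (q : Q) : IsGroupLikeElem T (chiE D c q) := by
  apply groupLike_of_pieces D
  intro j
  rw [one_tmul_chiE D c]
  exact (MonoidAlgebra.isGroupLikeElem_single_one (R := T' j) q).map (c j).symm

lemma chiE_one : chiE D c 1 = 1 := by
  apply eq_of_forall_one_tmul D
  intro j
  rw [one_tmul_chiE D c, ← MonoidAlgebra.one_def, map_one]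
  exact Algebra.TensorProduct.one_def

lemma chiE_mul (q q' : Q) : chiE D c (q * q') = chiE D c q * chiE D c q' := by
  apply eq_of_forall_one_tmul D
  intro j
  have h1 : (1 : T' j) ⊗ₜ[T] (chiE D c q * chiE D c q') =
      ((1 : T' j) ⊗ₜ[T] chiE D c q) * ((1 : T' j) ⊗ₜ[T] chiE D c q') := by
    rw [Algebra.TensorProduct.tmul_mul_tmul, mul_one]
  rw [h1, one_tmul_chiE D c, one_tmul_chiE D c, one_tmul_chiE D c, ← map_mul,
    MonoidAlgebra.single_mul_single, mul_one]

/-- the glued characters as a group homomorphism -/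
noncomputable def chiHom : Q →* GroupLike T X where
  toFun q := ⟨chiE D c q, chiE_groupLike D c q⟩
  map_one' := by
    apply GroupLike.val_injective
    show chiE D c 1 = 1
    exact chiE_one D c
  map_mul' q q' := by
    apply GroupLike.val_injective
    show chiE D c (q * q') = chiE D c q * chiE D c q'
    exact chiE_mul D c q q'

/-- the comparison map `T[Q] → X` -/
noncomputable def PsiT : MonoidAlgebra T Q →ₐc[T] X :=
  (MonoidAlgebra.liftGroupLikeBialgHom (R := T) (A := X)).comp
    (MonoidAlgebra.mapDomainBialgHom T (chiHom D c))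

lemma PsiT_single (q : Q) (t : T) :
    PsiT D c (MonoidAlgebra.single q t) = t • chiE D c q := by
  simp [PsiT, MonoidAlgebra.liftGroupLikeBialgHom, Algebra.smul_def, chiHom]

lemma chart_one_tmul_PsiT (j : ι) (z : MonoidAlgebra T Q) :
    c j ((1 : T' j) ⊗ₜ[T] PsiT D c z) = MonoidAlgebra.mapRingHom Q (algebraMap T (T' j)) z := by
  induction z using MonoidAlgebra.induction_linear with
  | zero => simp
  | add x y hx hy => rw [map_add, TensorProduct.tmul_add, map_add, hx, hy, map_add]
  | single q t =>
    have h1 : (1 : T' j) ⊗ₜ[T] (t • chiE D c q) =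
        algebraMap T (T' j) t • ((1 : T' j) ⊗ₜ[T] chiE D c q) := by
      rw [TensorProduct.tmul_smul, algebraMap_smul]
    rw [PsiT_single, h1, map_smul, one_tmul_chiE D c, BialgEquiv.apply_symm_apply,
      MonoidAlgebra.mapRingHom_single, MonoidAlgebra.smul_single, smul_eq_mul, mul_one]

lemma PsiT_injective : Function.Injective (PsiT D c) := by
  intro z z' h
  apply MonoidAlgebra.coeff_injective
  ext q
  have h0 : z.coeff q - z'.coeff q = 0 := by
    apply eq_zero_of_forall_algebraMap D
    intro j
    have h1 := congrArg (fun w => (c j ((1 : T' j) ⊗ₜ[T] w)).coeff q) h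
    simp only [chart_one_tmul_PsiT, MonoidAlgebra.coeff_mapRingHom] at h1
    rw [map_sub, h1, sub_self]
  exact sub_eq_zero.mp h0

lemma PsiT_surjective : Function.Surjective (PsiT D c) := by
  classical
  intro x
  have hl : ∀ j, ∃ z : MonoidAlgebra T Q,
      MonoidAlgebra.mapRingHom Q (algebraMap T (T' j)) z = c j ((1 : T' j) ⊗ₜ[T] x) :=
    fun j => mapRingHom_surjective (algebraMap T (T' j)) (D.hsurj j) Q _
  choose zz hzz using hl
  refine ⟨∑ j', MonoidAlgebra.single 1 (D.ε j') * zz j', ?_⟩
  apply eq_of_forall_one_tmul D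
  intro j
  apply (c j).toEquiv.injective
  show c j ((1 : T' j) ⊗ₜ[T] PsiT D c (∑ j', MonoidAlgebra.single 1 (D.ε j') * zz j')) =
    c j ((1 : T' j) ⊗ₜ[T] x)
  rw [chart_one_tmul_PsiT, map_sum, Finset.sum_eq_single j]
  · rw [map_mul, MonoidAlgebra.mapRingHom_single, D.hone, ← MonoidAlgebra.one_def, one_mul, hzz]
  · intro j' _ hj'
    rw [map_mul, MonoidAlgebra.mapRingHom_single, D.horth j j' (Ne.symm hj'),
      MonoidAlgebra.single_zero, zero_mul]
  · intro h
    exact absurd (Finset.mem_univ j) h

include D c in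
/-- Charts with one group over the pieces of a finite decomposition glue. -/
theorem nonempty_chart_of_pieces : Nonempty (X ≃ₐc[T] MonoidAlgebra T Q) :=
  ⟨(BialgEquiv.ofBijective (PsiT D c) ⟨PsiT_injective D c, PsiT_surjective D c⟩).symm⟩

end Pieces

end Groth.Agent.Lib.Helper6.MTKer
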