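import Mathlib
import Groth.Prelude.Def_SGA3b
import Groth.Agent.Lib.Helper6.MTKer.MK1

/-!
# Charts over a finite product of rings (helper6)
-/

set_option autoImplicit false
set_option linter.unusedSectionVars false
set_option linter.unusedVariables false
set_option linter.unusedSimpArgs false
set_option linter.style.haveILetI false
set_option linter.overlappingInstances false
set_option maxHeartbeats 800000
set_option synthInstance.maxHeartbeats 400000

universe u
open TensorProduct SGA3b Coalgebra
open Groth.Agent.Lib.Helper6.MultType Groth.Agent.Lib.Helper6.Isotriv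

namespace Groth.Agent.Lib.Helper6.MTKer

section Pi

variable {R : Type u} [CommRing R] {ι : Type u} [Fintype ι] (S : ι → Type u)
  [∀ j, CommRing (S j)] [∀ j, Algebra R (S j)]

lemma flat_pi (h : ∀ j, Module.Flat R (S j)) : Module.Flat R (∀ j, S j) := by
  classical
  haveI := h
  exact Module.Flat.of_linearEquiv (DFinsupp.linearEquivFunOnFintype (R := R) (M := S)).symm

lemma range_comap_pi :
    Set.range (PrimeSpectrum.comap (algebraMap R (∀ k, S k))) =
      ⋃ k, Set.range (PrimeSpectrum.comap (algebraMap R (S k))) := by
  rw [← PrimeSpectrum.iUnion_range_comap_comp_evalRingHom (R := S) (algebraMap R (∀ k, S k))]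
  apply Set.iUnion_congr
  intro k
  have hcomp : (Pi.evalRingHom S k).comp (algebraMap R (∀ k, S k)) = algebraMap R (S k) :=
    RingHom.ext fun r => rfl
  rw [hcomp]

variable {B : Type u} [CommRing B] [HopfAlgebra R B]

/-- Charts with one group over finitely many algebras give a chart over their product. -/
theorem nonempty_chart_pi {Q : Type u} [CommGroup Q]
    (e : ∀ j, S j ⊗[R] B ≃ₐc[S j] MonoidAlgebra (S j) Q) :
    Nonempty (((∀ j, S j) ⊗[R] B) ≃ₐc[∀ j, S j] MonoidAlgebra (∀ j, S j) Q) := by
  classical
  letI algP : ∀ j, Algebra (∀ j, S j) (S j) := fun j => (Pi.evalRingHom S j).toAlgebra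
  haveI tow : ∀ j, IsScalarTower R (∀ j, S j) (S j) := fun j =>
    IsScalarTower.of_algebraMap_eq (fun r => rfl)
  have halg : ∀ j (t : ∀ j, S j), algebraMap (∀ j, S j) (S j) t = t j := fun j t => rfl
  let D : PieceData (∀ j, S j) ι S :=
    { ε := fun j => Pi.single j 1
      hsum := by
        ext k
        simp [Finset.sum_apply, Pi.single_apply]
      hsurj := by
        intro j s
        exact ⟨Pi.single j s, by rw [halg]; exact Pi.single_eq_same j s⟩
      hker := by
        intro j t ht
        rw [halg] at ht
        ext k
        by_cases hk : k = j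
        · subst hk
          simp [ht]
        · simp [Pi.single_eq_of_ne hk]
      hone := by
        intro j
        rw [halg]
        exact Pi.single_eq_same j 1
      horth := by
        intro j j' hj
        rw [halg]
        exact Pi.single_eq_of_ne hj 1 }
  exact nonempty_chart_of_pieces D
    (fun j => (cancelBaseChangeBialgEquiv R (∀ j, S j) B (S j)).trans (e j))

end Pi

end Groth.Agent.Lib.Helper6.MTKer
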