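import Mathlib
import Groth.Prelude.Def_SGA3b
import Groth.Agent.Lib.Helper6.MTKer.MK2
import Groth.Agent.Lib.Helper6.QIso.QI1

/-!
# Gluing charts of varying type along a finite flat covering family (helper6)

A Hopf algebra `B` over `R` which becomes diagonalisable (with possibly different groups) over the
members of a finite, jointly surjective family of flat `R`-algebras is of multiplicative type.
The loci of constant type are open and closed in `Spec R`.
-/

set_option autoImplicit false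
set_option linter.unusedSectionVars false
set_option linter.unusedVariables false
set_option linter.unusedSimpArgs false
set_option linter.style.haveILetI false
set_option linter.overlappingInstances false
set_option maxHeartbeats 800000
set_option synthInstance.maxHeartbeats 400000

universe u
open TensorProduct SGA3b Coalgebra
open Groth.Agent.Lib.Helper6.MultType Groth.Agent.Lib.Helper6.Isotriv
open Groth.Agent.Lib.Helper6.QIso

namespace Groth.Agent.Lib.Helper6.MTKer

section CommonField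

theorem exists_field_quotient (κ : Type u) [Field κ] (T : Type u) [CommRing T] [Algebra κ T]
    [Nontrivial T] :
    ∃ (K : Type u) (_ : Field K) (_ : Algebra κ K), Nonempty (T →ₐ[κ] K) := by
  obtain ⟨𝔫, h𝔫⟩ := Ideal.exists_maximal T
  haveI := h𝔫
  letI : Field (T ⧸ 𝔫) := Ideal.Quotient.field 𝔫
  exact ⟨T ⧸ 𝔫, inferInstance, inferInstance, ⟨Ideal.Quotient.mkₐ κ 𝔫⟩⟩

theorem exists_common_field_aux {R : Type u} [CommRing R] (κ : Type u) [Field κ] [Algebra R κ]
    (S₁ S₂ : Type u) [CommRing S₁] [CommRing S₂] [Algebra R S₁] [Algebra R S₂]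
    [Nontrivial (κ ⊗[R] S₁)] [Nontrivial (κ ⊗[R] S₂)] :
    ∃ (K : Type u) (_ : Field K) (_ : Algebra R K) (_ : S₁ →ₐ[R] K) (_ : S₂ →ₐ[R] K),
      RingHom.ker (algebraMap R K) = RingHom.ker (algebraMap R κ) := by
  haveI : Nontrivial ((κ ⊗[R] S₁) ⊗[κ] (κ ⊗[R] S₂)) :=
    Algebra.TensorProduct.nontrivial_of_algebraMap_injective_of_flat_left
      (R := κ) (A := κ ⊗[R] S₁) (B := κ ⊗[R] S₂) (algebraMap κ (κ ⊗[R] S₂)).injective
  obtain ⟨K, _, _, ⟨γ⟩⟩ := exists_field_quotient κ ((κ ⊗[R] S₁) ⊗[κ] (κ ⊗[R] S₂))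
  letI algK : Algebra R K := ((algebraMap κ K).comp (algebraMap R κ)).toAlgebra
  haveI : IsScalarTower R κ K := IsScalarTower.of_algebraMap_eq (fun r => rfl)
  let γ₁ : (κ ⊗[R] S₁) →ₐ[κ] K := γ.comp Algebra.TensorProduct.includeLeft
  let γ₂ : (κ ⊗[R] S₂) →ₐ[κ] K := γ.comp Algebra.TensorProduct.includeRight
  refine ⟨K, inferInstance, inferInstance,
    (γ₁.restrictScalars R).comp Algebra.TensorProduct.includeRight,
    (γ₂.restrictScalars R).comp Algebra.TensorProduct.includeRight, ?_⟩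
  ext r
  rw [RingHom.mem_ker, RingHom.mem_ker]
  show algebraMap κ K (algebraMap R κ r) = 0 ↔ algebraMap R κ r = 0
  exact map_eq_zero_iff _ (algebraMap κ K).injective

/-- Two algebras with a common point of `Spec R` in their images map to a common field. -/
theorem exists_common_field {R : Type u} [CommRing R] (S₁ S₂ : Type u) [CommRing S₁] [CommRing S₂]
    [Algebra R S₁] [Algebra R S₂] (p : PrimeSpectrum R)
    (h₁ : p ∈ Set.range (PrimeSpectrum.comap (algebraMap R S₁)))
    (h₂ : p ∈ Set.range (PrimeSpectrum.comap (algebraMap R S₂))) :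
    ∃ (K : Type u) (_ : Field K) (_ : Algebra R K) (_ : S₁ →ₐ[R] K) (_ : S₂ →ₐ[R] K),
      RingHom.ker (algebraMap R K) = p.asIdeal := by
  haveI : Nontrivial (p.asIdeal.ResidueField ⊗[R] S₁) :=
    (PrimeSpectrum.nontrivial_iff_mem_rangeComap p).mpr h₁
  haveI : Nontrivial (p.asIdeal.ResidueField ⊗[R] S₂) :=
    (PrimeSpectrum.nontrivial_iff_mem_rangeComap p).mpr h₂
  obtain ⟨K, hF, hA, g₁, g₂, hk⟩ := exists_common_field_aux (R := R) p.asIdeal.ResidueField S₁ S₂
  exact ⟨K, hF, hA, g₁, g₂, by rw [hk, Ideal.ker_algebraMap_residueField]⟩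

variable {R : Type u} [CommRing R] {B : Type u} [CommRing B] [HopfAlgebra R B]

/-- The types of two charts whose images in `Spec R` meet are isomorphic. -/
theorem nonempty_mulEquiv_of_mem_range {S₁ S₂ : Type u} [CommRing S₁] [CommRing S₂]
    [Algebra R S₁] [Algebra R S₂] {Q₁ Q₂ : Type u} [CommGroup Q₁] [CommGroup Q₂]
    (e₁ : S₁ ⊗[R] B ≃ₐc[S₁] MonoidAlgebra S₁ Q₁) (e₂ : S₂ ⊗[R] B ≃ₐc[S₂] MonoidAlgebra S₂ Q₂)
    (p : PrimeSpectrum R)
    (h₁ : p ∈ Set.range (PrimeSpectrum.comap (algebraMap R S₁)))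
    (h₂ : p ∈ Set.range (PrimeSpectrum.comap (algebraMap R S₂))) :
    Nonempty (Q₁ ≃* Q₂) := by
  obtain ⟨K, _, _, g₁, g₂, -⟩ := exists_common_field S₁ S₂ p h₁ h₂
  letI a₁ : Algebra S₁ K := g₁.toRingHom.toAlgebra
  haveI t₁ : IsScalarTower R S₁ K := IsScalarTower.of_algebraMap_eq fun r => (g₁.commutes r).symm
  letI a₂ : Algebra S₂ K := g₂.toRingHom.toAlgebra
  haveI t₂ : IsScalarTower R S₂ K := IsScalarTower.of_algebraMap_eq fun r => (g₂.commutes r).symm
  let E : MonoidAlgebra K Q₁ ≃ₐc[K] MonoidAlgebra K Q₂ :=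
    (chartOver e₁ K).symm.trans (chartOver e₂ K)
  let u : Q₁ →* Q₂ :=
    MonoidAlgebra.mapDomainOfBialgHom (E : MonoidAlgebra K Q₁ →ₐc[K] MonoidAlgebra K Q₂)
  let v : Q₂ →* Q₁ :=
    MonoidAlgebra.mapDomainOfBialgHom (E.symm : MonoidAlgebra K Q₂ →ₐc[K] MonoidAlgebra K Q₁)
  have h1 : (E : MonoidAlgebra K Q₁ →ₐc[K] MonoidAlgebra K Q₂).comp
      (E.symm : MonoidAlgebra K Q₂ →ₐc[K] MonoidAlgebra K Q₁) = BialgHom.id K _ := by
    ext x
    simp
  have h2 : (E.symm : MonoidAlgebra K Q₂ →ₐc[K] MonoidAlgebra K Q₁).comp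
      (E : MonoidAlgebra K Q₁ →ₐc[K] MonoidAlgebra K Q₂) = BialgHom.id K _ := by
    ext x
    simp
  have huv : u.comp v = MonoidHom.id Q₂ := by
    rw [← MonoidAlgebra.mapDomainOfBialgHom_comp, h1, MonoidAlgebra.mapDomainOfBialgHom_id]
  have hvu : v.comp u = MonoidHom.id Q₁ := by
    rw [← MonoidAlgebra.mapDomainOfBialgHom_comp, h2, MonoidAlgebra.mapDomainOfBialgHom_id]
  exact ⟨MonoidHom.toMulEquiv u v hvu huv⟩

end CommonField

section Const

variable {R : Type u} [CommRing R] {B : Type u} [CommRing B] [HopfAlgebra R B]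

/-- A flat algebra with a chart whose image in `Spec R` is a basic open set `D(f)` makes `B`
of multiplicative type of constant type over `R_f`. -/
theorem isMultTypeConst_of_range (f : R) (P : Type u) [CommRing P] [Algebra R P] [Module.Flat R P]
    (hrange : Set.range (PrimeSpectrum.comap (algebraMap R P)) =
      (PrimeSpectrum.basicOpen f : Set (PrimeSpectrum R)))
    (hd : IsDiag P (P ⊗[R] B)) :
    IsMultTypeConst (Localization.Away f) (Localization.Away f ⊗[R] B) := by
  have hunit : IsUnit (algebraMap R P f) := by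
    by_contra hnu
    obtain ⟨𝔪, h𝔪, hmem⟩ := exists_max_ideal_of_mem_nonunits (mem_nonunits_iff.mpr hnu)
    have h1 : PrimeSpectrum.comap (algebraMap R P) ⟨𝔪, h𝔪.isPrime⟩ ∈
        Set.range (PrimeSpectrum.comap (algebraMap R P)) := ⟨_, rfl⟩
    rw [hrange] at h1
    exact h1 hmem
  letI algL : Algebra (Localization.Away f) P :=
    (IsLocalization.Away.lift (S := Localization.Away f) f hunit).toAlgebra
  haveI tow : IsScalarTower R (Localization.Away f) P :=
    IsScalarTower.of_algebraMap_eq (fun r => by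
      rw [RingHom.algebraMap_toAlgebra, IsLocalization.Away.lift_eq])
  haveI : Module.Flat (Localization.Away f) P :=
    (Module.flat_iff_of_isLocalization (Localization.Away f) (Submonoid.powers f) P).mpr
      inferInstance
  have hff : Module.FaithfullyFlat (Localization.Away f) P := by
    apply Module.FaithfullyFlat.of_comap_surjective
    intro 𝔓
    have hp : PrimeSpectrum.comap (algebraMap R (Localization.Away f)) 𝔓 ∈
        Set.range (PrimeSpectrum.comap (algebraMap R P)) := by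
      rw [hrange, ← PrimeSpectrum.localization_away_comap_range (Localization.Away f) f]
      exact ⟨𝔓, rfl⟩
    obtain ⟨q, hq⟩ := hp
    refine ⟨q, ?_⟩
    apply PrimeSpectrum.localization_comap_injective (Localization.Away f) (Submonoid.powers f)
    rw [← hq, ← PrimeSpectrum.comap_comp_apply, ← IsScalarTower.algebraMap_eq]
  exact ⟨P, inferInstance, inferInstance, hff, IsDiag.to_tower (Localization.Away f) P hd⟩

end Const

section Glue

variable (R : Type u) [CommRing R] {ι : Type u} [Fintype ι]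
  (S : ι → Type u) [∀ j, CommRing (S j)] [∀ j, Algebra R (S j)]
  (Q : ι → Type u) [∀ j, CommGroup (Q j)]

/-- two indices have isomorphic types -/
def TypeRel (j k : ι) : Prop := Nonempty (Q j ≃* Q k)

lemma typeRel_refl (j : ι) : TypeRel Q j j := ⟨MulEquiv.refl _⟩

lemma typeRel_symm {j k : ι} (h : TypeRel Q j k) : TypeRel Q k j :=
  ⟨(Classical.choice h).symm⟩

lemma typeRel_trans {j k l : ι} (h : TypeRel Q j k) (h' : TypeRel Q k l) : TypeRel Q j l :=
  ⟨(Classical.choice h).trans (Classical.choice h')⟩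

/-- the locus of `Spec R` where the type is `Q j₀` -/
def Vset (j₀ : ι) : Set (PrimeSpectrum R) :=
  ⋃ k : {k : ι // TypeRel Q j₀ k}, Set.range (PrimeSpectrum.comap (algebraMap R (S k.1)))

lemma mem_Vset (j₀ : ι) (p : PrimeSpectrum R) :
    p ∈ Vset R S Q j₀ ↔
      ∃ k, TypeRel Q j₀ k ∧ p ∈ Set.range (PrimeSpectrum.comap (algebraMap R (S k))) := by
  simp only [Vset, Set.mem_iUnion, Subtype.exists]
  constructor
  · rintro ⟨k, h1, h2⟩
    exact ⟨k, h1, h2⟩
  · rintro ⟨k, h1, h2⟩
    exact ⟨k, h1, h2⟩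

lemma Vset_eq_range (j₀ : ι) :
    Vset R S Q j₀ = Set.range (PrimeSpectrum.comap
      (algebraMap R (∀ k : {k : ι // TypeRel Q j₀ k}, S k.1))) := by
  classical
  exact (range_comap_pi (fun k : {k : ι // TypeRel Q j₀ k} => S k.1)).symm

variable {B : Type u} [CommRing B] [HopfAlgebra R B]
  (e : ∀ j, S j ⊗[R] B ≃ₐc[S j] MonoidAlgebra (S j) (Q j))
  (hflat : ∀ j, Module.Flat R (S j))
  (hcov : ∀ p : PrimeSpectrum R, ∃ j, p ∈ Set.range (PrimeSpectrum.comap (algebraMap R (S j))))

include hflat in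
lemma Vset_gen (j₀ : ι) : StableUnderGeneralization (Vset R S Q j₀) := by
  apply stableUnderGeneralization_iUnion
  intro k
  exact (RingHom.Flat.generalizingMap_comap (f := algebraMap R (S k.1))
    (RingHom.flat_algebraMap_iff.mpr (hflat k.1))).stableUnderGeneralization_range

include hcov in
lemma exists_mem_Vset (p : PrimeSpectrum R) : ∃ j, p ∈ Vset R S Q j := by
  obtain ⟨j, hj⟩ := hcov p
  exact ⟨j, (mem_Vset R S Q j p).mpr ⟨j, typeRel_refl Q j, hj⟩⟩

include e in
lemma typeRel_of_mem_Vset (j₀ j₁ : ι) (p : PrimeSpectrum R) (h0 : p ∈ Vset R S Q j₀)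
    (h1 : p ∈ Vset R S Q j₁) : TypeRel Q j₀ j₁ := by
  obtain ⟨k₀, hr0, hk0⟩ := (mem_Vset R S Q j₀ p).mp h0
  obtain ⟨k₁, hr1, hk1⟩ := (mem_Vset R S Q j₁ p).mp h1
  have h := nonempty_mulEquiv_of_mem_range (e k₀) (e k₁) p hk0 hk1
  exact typeRel_trans Q hr0 (typeRel_trans Q h (typeRel_symm Q hr1))

include e hcov in
lemma Vset_compl (j₀ : ι) :
    (Vset R S Q j₀)ᶜ = ⋃ j₁ : {j₁ : ι // ¬ TypeRel Q j₀ j₁}, Vset R S Q j₁.1 := by
  ext p
  simp only [Set.mem_compl_iff, Set.mem_iUnion, Subtype.exists, exists_prop]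
  constructor
  · intro hp
    obtain ⟨j, hj⟩ := exists_mem_Vset R S Q hcov p
    refine ⟨j, ?_, hj⟩
    intro hr
    apply hp
    obtain ⟨k, hrk, hk⟩ := (mem_Vset R S Q j p).mp hj
    exact (mem_Vset R S Q j₀ p).mpr ⟨k, typeRel_trans Q hr hrk, hk⟩
  · rintro ⟨j₁, hnr, hp1⟩ hp0
    exact hnr (typeRel_of_mem_Vset R S Q e j₀ j₁ p hp0 hp1)

include e hflat hcov in
lemma Vset_closed (j₀ : ι) : IsClosed (Vset R S Q j₀) := by
  have hs : StableUnderSpecialization (Vset R S Q j₀) := by
    rw [← stableUnderGeneralization_compl_iff, Vset_compl R S Q e hcov j₀]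
    apply stableUnderGeneralization_iUnion
    intro j₁
    exact Vset_gen R S Q hflat j₁.1
  rw [Vset_eq_range R S Q j₀] at hs ⊢
  exact PrimeSpectrum.isClosed_range_of_stableUnderSpecialization _ hs

include e hflat hcov in
lemma Vset_clopen (j₀ : ι) : IsClopen (Vset R S Q j₀) := by
  refine ⟨Vset_closed R S Q e hflat hcov j₀, ?_⟩
  rw [← isClosed_compl_iff, Vset_compl R S Q e hcov j₀]
  exact isClosed_iUnion_of_finite (fun j₁ => Vset_closed R S Q e hflat hcov j₁.1)

include e hflat hcov in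
/-- gluing, with the charts as data -/
theorem isMultType_of_charts_data : IsMultType R B := by
  classical
  have hidem : ∀ j₀, ∃ f : R, IsIdempotentElem f ∧
      Vset R S Q j₀ = (PrimeSpectrum.basicOpen f : Set (PrimeSpectrum R)) :=
    fun j₀ => PrimeSpectrum.isClopen_iff.mp (Vset_clopen R S Q e hflat hcov j₀)
  choose ee hee_idem hee using hidem
  refine ⟨Set.range ee, ?_, ?_⟩
  · apply PrimeSpectrum.iSup_basicOpen_eq_top_iff.mp
    rw [eq_top_iff]
    refine SetLike.le_def.mpr (fun p _ => ?_)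
    obtain ⟨j, hj⟩ := exists_mem_Vset R S Q hcov p
    rw [TopologicalSpace.Opens.mem_iSup]
    refine ⟨j, ?_⟩
    have h1 : p ∈ (PrimeSpectrum.basicOpen (ee j) : Set (PrimeSpectrum R)) := by
      rw [← hee j]
      exact hj
    exact h1
  · rintro f ⟨j₀, rfl⟩
    haveI : Module.Flat R (∀ k : {k : ι // TypeRel Q j₀ k}, S k.1) :=
      flat_pi (fun k : {k : ι // TypeRel Q j₀ k} => S k.1) (fun k => hflat k.1)
    apply isMultTypeConst_of_range (ee j₀) (∀ k : {k : ι // TypeRel Q j₀ k}, S k.1)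
    · rw [← Vset_eq_range R S Q j₀, hee j₀]
    · obtain ⟨E⟩ := nonempty_chart_pi (B := B) (fun k : {k : ι // TypeRel Q j₀ k} => S k.1)
        (Q := Q j₀) (fun k => (e k.1).trans
          (MonoidAlgebra.domCongrBialgEquiv (S k.1) (S k.1) (Classical.choice k.2).symm))
      exact ⟨Q j₀, inferInstance, ⟨E⟩⟩

end Glue

section GlueProp

variable {R : Type u} [CommRing R] {B : Type u} [CommRing B] [HopfAlgebra R B]
  {ι : Type u} [Fintype ι] (S : ι → Type u) [∀ j, CommRing (S j)] [∀ j, Algebra R (S j)]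

/-- **Gluing**: a Hopf algebra which is diagonalisable over each member of a finite jointly
surjective family of flat algebras is of multiplicative type. -/
theorem isMultType_of_charts (hflat : ∀ j, Module.Flat R (S j))
    (hcov : ∀ p : PrimeSpectrum R, ∃ j,
      p ∈ Set.range (PrimeSpectrum.comap (algebraMap R (S j))))
    (hd : ∀ j, IsDiag (S j) (S j ⊗[R] B)) : IsMultType R B := by
  have hd' : ∀ j, ∃ (M : Type u) (_ : CommGroup M),
      Nonempty (S j ⊗[R] B ≃ₐc[S j] MonoidAlgebra (S j) M) := hd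
  choose Q instQ e using hd'
  letI : ∀ j, CommGroup (Q j) := instQ
  exact isMultType_of_charts_data R S Q (fun j => Classical.choice (e j)) hflat hcov

end GlueProp

end Groth.Agent.Lib.Helper6.MTKer
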