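import Mathlib
import Groth.Prelude.Def_SGA3b
import Groth.Agent.Lib.Helper6.MTKer.MK3
import Groth.Agent.Lib.Helper6.Isotriv.Torsion
import Groth.Agent.Lib.Helper6.Isotriv.Orth
import Groth.Agent.Lib.Helper6.Isotriv.Insep

/-!
# Kernel of a homomorphism between diagonalisable groups: local structure (helper6)

For a bialgebra map `φ : S[N] → S[M]` with `N` finitely generated, `Spec S` decomposes into
finitely many open and closed pieces over each of which the kernel of the corresponding
homomorphism `D(M) → D(N)` is diagonalisable.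
-/

set_option autoImplicit false
set_option linter.unusedSectionVars false
set_option linter.unusedVariables false
set_option linter.unusedSimpArgs false
set_option linter.style.haveILetI false
set_option linter.overlappingInstances false
set_option maxHeartbeats 800000
set_option synthInstance.maxHeartbeats 400000

universe u
open TensorProduct SGA3b Coalgebra
open Groth.Agent.Lib.Helper6.MultType Groth.Agent.Lib.Helper6.Isotriv
open Groth.Agent.Lib.Helper6.QIso

namespace Groth.Agent.Lib.Helper6.MTKer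

/-- the piece of `Spec T` cut out by an idempotent -/
abbrev Pc {T : Type u} [CommRing T] (E : T) : Type u := T ⧸ Ideal.span {(1 : T) - E}

section PcRing

variable {T : Type u} [CommRing T] {E : T}

lemma pc_E : algebraMap T (Pc E) E = 1 := by
  show Ideal.Quotient.mk _ E = 1
  rw [← map_one (Ideal.Quotient.mk (Ideal.span {(1 : T) - E})), Ideal.Quotient.eq]
  have h : E - 1 = -((1 : T) - E) := by ring
  rw [h]
  exact neg_mem (Ideal.subset_span (Set.mem_singleton _))

lemma pc_eq_one {a : T} (h : E * a = E) : algebraMap T (Pc E) a = 1 := by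
  have h1 := congrArg (algebraMap T (Pc E)) h
  rw [map_mul, pc_E, one_mul] at h1
  exact h1

lemma pc_eq_zero {a : T} (h : E * a = 0) : algebraMap T (Pc E) a = 0 := by
  have h1 := congrArg (algebraMap T (Pc E)) h
  rw [map_mul, pc_E, one_mul, map_zero] at h1
  exact h1

lemma flat_pc (hE : IsIdempotentElem E) : Module.Flat T (Pc E) := by
  haveI : IsLocalization.Away E (Pc E) := IsLocalization.Away.quotient_of_isIdempotentElem hE
  exact IsLocalization.flat (Pc E) (Submonoid.powers E)

lemma mem_range_comap_pc (hE : IsIdempotentElem E) (𝔮 : PrimeSpectrum T) (h : E ∉ 𝔮.asIdeal) :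
    𝔮 ∈ Set.range (PrimeSpectrum.comap (algebraMap T (Pc E))) := by
  have h1 : (1 : T) - E ∈ 𝔮.asIdeal := by
    have h2 : E * (1 - E) ∈ 𝔮.asIdeal := by
      have h3 : E * (1 - E) = 0 := by rw [mul_sub, mul_one, hE.eq, sub_self]
      rw [h3]
      exact zero_mem _
    exact (𝔮.isPrime.mem_or_mem h2).resolve_left h
  have hr := range_comap_of_surjective (Pc E) (algebraMap T (Pc E))
    Ideal.Quotient.mk_surjective
  rw [hr, PrimeSpectrum.mem_zeroLocus]
  have hk : RingHom.ker (algebraMap T (Pc E)) = Ideal.span {(1 : T) - E} := Ideal.mk_ker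
  rw [hk]
  exact Ideal.span_le.mpr (Set.singleton_subset_iff.mpr h1)

end PcRing

section Piece

variable {S : Type u} [CommRing S] {M N : Type u} [CommGroup M] [CommGroup N]
  (φ : MonoidAlgebra S N →ₐc[S] MonoidAlgebra S M)
  {Y : Type u} [CommRing Y] [HopfAlgebra S Y] (q : MonoidAlgebra S M →ₐc[S] Y)
  (S' : Type u) [CommRing S'] [Algebra S S']

/-- the base change of `q` to `S'`, in the chart -/
noncomputable def qP : MonoidAlgebra S' M →ₐc[S'] S' ⊗[S] Y :=
  (Bialgebra.TensorProduct.map (BialgHom.id S' S') q).comp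
    ((scalarTensorBialgEquiv S S' M).symm : MonoidAlgebra S' M →ₐc[S'] S' ⊗[S] MonoidAlgebra S M)

/-- coefficientwise base change -/
noncomputable def PPa : MonoidAlgebra S M →ₐ[S] MonoidAlgebra S' M :=
  MonoidAlgebra.mapAlgHom M (Algebra.ofId S S')

lemma scalarTensor_one_tmul (x : MonoidAlgebra S M) :
    scalarTensorBialgEquiv S S' M ((1 : S') ⊗ₜ[S] x) = PPa (M := M) S' x := by
  show MonoidAlgebra.scalarTensorEquiv S S' ((1 : S') ⊗ₜ[S] x) = _
  rw [MonoidAlgebra.scalarTensorEquiv_tmul, one_smul]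
  rfl

lemma qP_PPa (x : MonoidAlgebra S M) : qP q S' (PPa (M := M) S' x) = (1 : S') ⊗ₜ[S] q x := by
  rw [← scalarTensor_one_tmul]
  show (Bialgebra.TensorProduct.map (BialgHom.id S' S') q)
    ((scalarTensorBialgEquiv S S' M).symm (scalarTensorBialgEquiv S S' M ((1 : S') ⊗ₜ[S] x))) = _
  rw [BialgEquiv.symm_apply_apply]
  rfl

lemma qP_surjective (hq : Function.Surjective q) : Function.Surjective (qP q S') := by
  have h0 : Function.Surjective (Bialgebra.TensorProduct.map (BialgHom.id S' S') q) := by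
    intro z
    induction z using TensorProduct.induction_on with
    | zero => exact ⟨0, map_zero _⟩
    | tmul r a =>
      obtain ⟨a', rfl⟩ := hq a
      exact ⟨r ⊗ₜ a', rfl⟩
    | add z w hz hw =>
      obtain ⟨z', rfl⟩ := hz
      obtain ⟨w', rfl⟩ := hw
      exact ⟨z' + w', map_add _ _ _⟩
  intro y
  obtain ⟨x, rfl⟩ := h0 y
  refine ⟨scalarTensorBialgEquiv S S' M x, ?_⟩
  show (Bialgebra.TensorProduct.map (BialgHom.id S' S') q)
    ((scalarTensorBialgEquiv S S' M).symm (scalarTensorBialgEquiv S S' M x)) = _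
  rw [BialgEquiv.symm_apply_apply]

variable (hq : Function.Surjective q)
  (h1 : ∀ c : MonoidAlgebra S N, counit (R := S) c = 0 → q (φ c) = 0)
  (h2 : RingHom.ker q ≤
    Ideal.map φ (RingHom.ker (Bialgebra.counitAlgHom S (MonoidAlgebra S N))))

include h1 in
lemma q_phi_single (n : N) : q (φ (MonoidAlgebra.single n 1)) = 1 := by
  have h := h1 (MonoidAlgebra.single n 1 - 1) (by
    rw [map_sub, MonoidAlgebra.counit_single, CommSemiring.counit_apply, Bialgebra.counit_one,
      sub_self])
  rw [map_sub, map_sub, map_one, map_one, sub_eq_zero] at h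
  exact h

/-- the quotient map of group algebras onto the type of the kernel -/
noncomputable def rhoK : MonoidAlgebra S' M →ₐc[S']
    MonoidAlgebra S' (M ⧸ (glHom (qP q S')).ker) :=
  MonoidAlgebra.mapDomainBialgHom S' (QuotientGroup.mk' (glHom (qP q S')).ker)

/-- the composite `S[N] → S[M] → S'[M] → S'[M ⧸ K]` -/
noncomputable def Xi : MonoidAlgebra S N →ₐ[S] MonoidAlgebra S' (M ⧸ (glHom (qP q S')).ker) :=
  ((rhoK q S' : MonoidAlgebra S' M →ₐ[S'] _).restrictScalars S).comp
    ((PPa (M := M) S').comp (φ : MonoidAlgebra S N →ₐ[S] MonoidAlgebra S M))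

lemma Xi_apply (c : MonoidAlgebra S N) : Xi φ q S' c = rhoK q S' (PPa (M := M) S' (φ c)) := rfl

variable (Tg : Finset N) (hTg : Subgroup.closure (Tg : Set N) = ⊤) (l : ↥Tg → M)
  (hP : ∀ ν : ↥Tg, PPa (M := M) S' (φ (MonoidAlgebra.single ν.1 1)) = MonoidAlgebra.single (l ν) 1)

include h1 hP in
lemma Xi_gen (ν : ↥Tg) : Xi φ q S' (MonoidAlgebra.single ν.1 1) = 1 := by
  have hmem : l ν ∈ (glHom (qP q S')).ker := by
    rw [mem_ker_glHom, ← hP ν, qP_PPa, q_phi_single φ q h1]
    exact Algebra.TensorProduct.one_def.symm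
  rw [Xi_apply, hP ν]
  show MonoidAlgebra.mapDomainBialgHom S' (QuotientGroup.mk' (glHom (qP q S')).ker)
    (MonoidAlgebra.single (l ν) 1) = 1
  rw [MonoidAlgebra.mapDomainBialgHom_single, MonoidAlgebra.one_def]
  congr 1
  exact (QuotientGroup.eq_one_iff _).mpr hmem

include h1 hP hTg in
lemma Xi_single (n : N) : Xi φ q S' (MonoidAlgebra.single n 1) = 1 := by
  let H : Subgroup N :=
    { carrier := {n | Xi φ q S' (MonoidAlgebra.single n 1) = 1}
      one_mem' := by
        show Xi φ q S' (MonoidAlgebra.single 1 1) = 1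
        rw [← MonoidAlgebra.one_def, map_one]
      mul_mem' := by
        intro a b ha hb
        show Xi φ q S' (MonoidAlgebra.single (a * b) 1) = 1
        have h : (MonoidAlgebra.single (a * b) 1 : MonoidAlgebra S N) =
            MonoidAlgebra.single a 1 * MonoidAlgebra.single b 1 := by
          rw [MonoidAlgebra.single_mul_single, mul_one]
        rw [h, map_mul, ha, hb, mul_one]
      inv_mem' := by
        intro a ha
        show Xi φ q S' (MonoidAlgebra.single a⁻¹ 1) = 1
        have h : (MonoidAlgebra.single a⁻¹ 1 : MonoidAlgebra S N) * MonoidAlgebra.single a 1 = 1 := by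
          rw [MonoidAlgebra.single_mul_single, mul_one, inv_mul_cancel, MonoidAlgebra.one_def]
        have h' := congrArg (Xi φ q S') h
        rw [map_mul, ha, mul_one, map_one] at h'
        exact h' }
  have hle : Subgroup.closure (Tg : Set N) ≤ H := by
    rw [Subgroup.closure_le]
    intro n hn
    exact Xi_gen φ q S' h1 Tg l hP ⟨n, hn⟩
  rw [hTg] at hle
  exact hle (Subgroup.mem_top n)

include h1 hP hTg in
lemma Xi_eq (c : MonoidAlgebra S N) :
    Xi φ q S' c = algebraMap S _ (counit (R := S) c) := by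
  induction c using MonoidAlgebra.induction_linear with
  | zero => simp
  | add x y hx hy => rw [map_add, hx, hy, map_add, map_add]
  | single n s =>
    have e1 : (MonoidAlgebra.single n s : MonoidAlgebra S N) = s • MonoidAlgebra.single n 1 := by
      rw [MonoidAlgebra.smul_single, smul_eq_mul, mul_one]
    rw [e1, map_smul, Xi_single φ q S' h1 Tg hTg l hP n, map_smul,
      MonoidAlgebra.counit_single, CommSemiring.counit_apply, Algebra.algebraMap_eq_smul_one,
      smul_eq_mul, mul_one]

include hq h1 h2 hP hTg in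
/-- Over an algebra where the images of the generators of `N` are single characters, the kernel
is diagonalisable. -/
theorem isDiag_of_single : IsDiag S' (S' ⊗[S] Y) := by
  apply isDiag_of_ker_le (qP q S') (qP_surjective q S' hq)
  intro z hz
  -- the element of the tensor product
  obtain ⟨w, hw⟩ : ∃ w, w = (scalarTensorBialgEquiv S S' M).symm z := ⟨_, rfl⟩
  have hzw : z = scalarTensorBialgEquiv S S' M w := by
    rw [hw, BialgEquiv.apply_symm_apply]
  have hw0 : w ∈ RingHom.ker (Algebra.TensorProduct.map (AlgHom.id S S')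
      (q : MonoidAlgebra S M →ₐ[S] Y)) := by
    rw [RingHom.mem_ker, hw]
    exact hz
  rw [Algebra.TensorProduct.lTensor_ker _ hq] at hw0
  -- the ring hom
  let Θ : S' ⊗[S] MonoidAlgebra S M →+* MonoidAlgebra S' (M ⧸ (glHom (qP q S')).ker) :=
    (RingHomClass.toRingHom (rhoK q S')).comp
      (RingHomClass.toRingHom (scalarTensorBialgEquiv S S' M))
  have hΘ : ∀ v, Θ v = rhoK q S' (scalarTensorBialgEquiv S S' M v) := fun v => rfl
  have hle : Ideal.map (Algebra.TensorProduct.includeRight :
      MonoidAlgebra S M →ₐ[S] S' ⊗[S] MonoidAlgebra S M)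
      (RingHom.ker (q : MonoidAlgebra S M →ₐ[S] Y)) ≤ RingHom.ker Θ := by
    rw [Ideal.map_le_iff_le_comap]
    intro x hx
    have hx' : x ∈ RingHom.ker q := hx
    have hx2 := h2 hx'
    have hle2 : Ideal.map φ (RingHom.ker (Bialgebra.counitAlgHom S (MonoidAlgebra S N))) ≤
        Ideal.comap (Algebra.TensorProduct.includeRight :
          MonoidAlgebra S M →ₐ[S] S' ⊗[S] MonoidAlgebra S M) (RingHom.ker Θ) := by
      rw [Ideal.map_le_iff_le_comap]
      intro c hc
      rw [Ideal.mem_comap, Ideal.mem_comap, RingHom.mem_ker]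
      have hc' : counit (R := S) c = 0 := hc
      show Θ ((1 : S') ⊗ₜ[S] φ c) = 0
      rw [hΘ, scalarTensor_one_tmul, ← Xi_apply, Xi_eq φ q S' h1 Tg hTg l hP, hc', map_zero]
    exact hle2 hx2
  have h3 := hle hw0
  rw [RingHom.mem_ker, hΘ, ← hzw] at h3
  exact h3

end Piece

section Exists

variable {S : Type u} [CommRing S] {M N : Type u} [CommGroup M] [CommGroup N]
  (φ : MonoidAlgebra S N →ₐc[S] MonoidAlgebra S M)
  {Y : Type u} [CommRing Y] [HopfAlgebra S Y] (q : MonoidAlgebra S M →ₐc[S] Y)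

/-- For `N` finitely generated there are finitely many idempotents covering `Spec S` over whose
pieces the kernel is diagonalisable. -/
theorem exists_pieces (hN : Group.FG N) (hq : Function.Surjective q)
    (h1 : ∀ c : MonoidAlgebra S N, counit (R := S) c = 0 → q (φ c) = 0)
    (h2 : RingHom.ker q ≤
      Ideal.map φ (RingHom.ker (Bialgebra.counitAlgHom S (MonoidAlgebra S N)))) :
    ∃ (Λ : Type u) (_ : Fintype Λ) (E : Λ → S), (∀ l, IsIdempotentElem (E l)) ∧
      (∀ 𝔮 : PrimeSpectrum S, ∃ l, E l ∉ 𝔮.asIdeal) ∧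
      ∀ l, IsDiag (Pc (E l)) (Pc (E l) ⊗[S] Y) := by
  classical
  obtain ⟨Tg, hTg⟩ := hN.out
  have hg : ∀ ν : ↥Tg, IsGroupLikeElem S (φ (MonoidAlgebra.single ν.1 1)) := fun ν =>
    (MonoidAlgebra.isGroupLikeElem_single_one (R := S) (A := S) ν.1).map φ
  have hsum1 : ∀ ν : ↥Tg, ∑ m : ↥((φ (MonoidAlgebra.single ν.1 1)).coeff.support),
      (φ (MonoidAlgebra.single ν.1 1)).coeff m.1 = 1 := by
    intro ν
    have h := (hg ν).counit_eq_one
    rw [counit_eq_sum, Finsupp.sum] at h
    rw [Finset.sum_coe_sort (φ (MonoidAlgebra.single ν.1 1)).coeff.support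
      (fun m => (φ (MonoidAlgebra.single ν.1 1)).coeff m)]
    exact h
  refine ⟨(ν : ↥Tg) → ↥((φ (MonoidAlgebra.single ν.1 1)).coeff.support), inferInstance,
    fun l => ∏ ν : ↥Tg, (φ (MonoidAlgebra.single ν.1 1)).coeff (l ν).1, ?_, ?_, ?_⟩
  · intro l
    show (∏ ν : ↥Tg, (φ (MonoidAlgebra.single ν.1 1)).coeff (l ν).1) *
      (∏ ν : ↥Tg, (φ (MonoidAlgebra.single ν.1 1)).coeff (l ν).1) = _
    rw [← Finset.prod_mul_distrib]
    exact Finset.prod_congr rfl (fun ν _ => coeff_idem (hg ν) _)
  · intro 𝔮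
    by_contra hcon
    push Not at hcon
    have hone : (∑ l : (ν : ↥Tg) → ↥((φ (MonoidAlgebra.single ν.1 1)).coeff.support),
        ∏ ν : ↥Tg, (φ (MonoidAlgebra.single ν.1 1)).coeff (l ν).1) = 1 := by
      have h := Finset.prod_univ_sum
        (fun ν : ↥Tg => (Finset.univ : Finset ↥((φ (MonoidAlgebra.single ν.1 1)).coeff.support)))
        (fun ν m => (φ (MonoidAlgebra.single ν.1 1)).coeff m.1)
      rw [Fintype.piFinset_univ] at h
      rw [← h]
      exact Finset.prod_eq_one (fun ν _ => hsum1 ν)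
    have hmem : (1 : S) ∈ 𝔮.asIdeal := by
      rw [← hone]
      exact Ideal.sum_mem _ (fun l _ => hcon l)
    exact 𝔮.isPrime.ne_top ((Ideal.eq_top_iff_one _).mpr hmem)
  · intro l
    have hl1 : ∀ ν : ↥Tg, (∏ ν' : ↥Tg, (φ (MonoidAlgebra.single ν'.1 1)).coeff (l ν').1) *
        (φ (MonoidAlgebra.single ν.1 1)).coeff (l ν).1 =
        ∏ ν' : ↥Tg, (φ (MonoidAlgebra.single ν'.1 1)).coeff (l ν').1 := by
      intro ν
      rw [← Finset.mul_prod_erase Finset.univ
        (fun ν' : ↥Tg => (φ (MonoidAlgebra.single ν'.1 1)).coeff (l ν').1) (Finset.mem_univ ν)]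
      have hi := coeff_idem (hg ν) (l ν).1
      calc _ = ((φ (MonoidAlgebra.single ν.1 1)).coeff (l ν).1 *
            (φ (MonoidAlgebra.single ν.1 1)).coeff (l ν).1) *
            ∏ x ∈ Finset.univ.erase ν, (φ (MonoidAlgebra.single x.1 1)).coeff (l x).1 := by ring
        _ = _ := by rw [hi]
    have hl0 : ∀ (ν : ↥Tg) (m : M), m ≠ (l ν).1 →
        (∏ ν' : ↥Tg, (φ (MonoidAlgebra.single ν'.1 1)).coeff (l ν').1) *
        (φ (MonoidAlgebra.single ν.1 1)).coeff m = 0 := by
      intro ν m hm
      rw [← hl1 ν, mul_assoc, coeff_orth (hg ν) (Ne.symm hm), mul_zero]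
    apply isDiag_of_single φ q (Pc (∏ ν : ↥Tg, (φ (MonoidAlgebra.single ν.1 1)).coeff (l ν).1))
      hq h1 h2 Tg hTg (fun ν => (l ν).1)
    intro ν
    apply MonoidAlgebra.coeff_injective
    ext m
    show (MonoidAlgebra.mapAlgHom M (Algebra.ofId S _) (φ (MonoidAlgebra.single ν.1 1))).coeff m = _
    rw [MonoidAlgebra.coeff_mapAlgHom, MonoidAlgebra.coeff_single, Finsupp.single_apply,
      Algebra.ofId_apply]
    by_cases hm : (l ν).1 = m
    · rw [if_pos hm, ← hm]
      exact pc_eq_one (hl1 ν)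
    · rw [if_neg hm]
      exact pc_eq_zero (hl0 ν m (Ne.symm hm))

end Exists

end Groth.Agent.Lib.Helper6.MTKer
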