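import Mathlib
import Groth.Prelude.Def_SGA3b
import Groth.Agent.Lib.Helper6.MTKer.MK4
import Groth.Agent.Lib.Helper6.QIso.QI2
import Groth.Agent.Lib.Helper6.Lift.Charts

/-!
# The kernel of a homomorphism between groups of multiplicative type (helper6)

`G = Spec A`, `H = Spec C` of multiplicative type, `H` of finite type, `u : G → H`.  Then `Ker u`
is of multiplicative type.
-/

set_option autoImplicit false
set_option linter.unusedSectionVars false
set_option linter.unusedVariables false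
set_option linter.unusedSimpArgs false
set_option linter.style.haveILetI false
set_option linter.overlappingInstances false
set_option maxHeartbeats 800000
set_option synthInstance.maxHeartbeats 400000

universe u
open TensorProduct SGA3b Coalgebra
open Groth.Agent.Lib.Helper6.MultType Groth.Agent.Lib.Helper6.Isotriv
open Groth.Agent.Lib.Helper6.QIso Groth.Agent.Lib.Helper6.Lift

namespace Groth.Agent.Lib.Helper6.MTKer

section Charts

variable {R : Type u} [CommRing R] {A : Type u} [CommRing A] [HopfAlgebra R A]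

lemma chart_of_mem_spec (f : R)
    (hf : IsMultTypeConst (Localization.Away f) (Localization.Away f ⊗[R] A)) :
    ∃ c : Chart R A, ∀ p : PrimeSpectrum R, f ∉ p.asIdeal →
      p ∈ Set.range (PrimeSpectrum.comap (algebraMap R c.S)) := by
  obtain ⟨R', _, _, hff, hd⟩ := hf
  letI : Algebra R R' :=
    ((algebraMap (Localization.Away f) R').comp (algebraMap R (Localization.Away f))).toAlgebra
  haveI : IsScalarTower R (Localization.Away f) R' := IsScalarTower.of_algebraMap_eq' rfl
  haveI : Module.Flat R (Localization.Away f) := IsLocalization.flat _ (Submonoid.powers f)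
  refine ⟨⟨R', Module.Flat.trans R (Localization.Away f) R',
    IsDiag.of_tower (Localization.Away f) R' hd⟩, ?_⟩
  intro p hp
  have h1 : p ∈ Set.range (PrimeSpectrum.comap (algebraMap R (Localization.Away f))) := by
    rw [PrimeSpectrum.localization_away_comap_range (Localization.Away f) f]
    exact hp
  obtain ⟨𝔓, rfl⟩ := h1
  obtain ⟨q, rfl⟩ := PrimeSpectrum.comap_surjective_of_faithfullyFlat
    (A := Localization.Away f) (B := R') 𝔓
  exact ⟨q, PrimeSpectrum.comap_comp_apply _ _ q⟩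

/-- A finite jointly surjective family of flat charts. -/
theorem exists_charts_spec (h : IsMultType R A) :
    ∃ (ι : Type u) (_ : Fintype ι) (c : ι → Chart R A),
      ∀ p : PrimeSpectrum R, ∃ i, p ∈ Set.range (PrimeSpectrum.comap (algebraMap R (c i).S)) := by
  classical
  obtain ⟨s, hs, H⟩ := h
  obtain ⟨s', hs's, hs'⟩ := (Ideal.span_eq_top_iff_finite s).mp hs
  have hc : ∀ f : s', ∃ c : Chart R A, ∀ p : PrimeSpectrum R, f.1 ∉ p.asIdeal →
      p ∈ Set.range (PrimeSpectrum.comap (algebraMap R c.S)) :=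
    fun f => chart_of_mem_spec f.1 (H f.1 (hs's f.2))
  choose c hc' using hc
  refine ⟨s', inferInstance, c, ?_⟩
  intro p
  obtain ⟨f, hfs, hf⟩ : ∃ f ∈ s', f ∉ p.asIdeal := by
    by_contra hcon
    push Not at hcon
    have h1 : Ideal.span (s' : Set R) ≤ p.asIdeal := Ideal.span_le.mpr hcon
    rw [hs'] at h1
    exact p.isPrime.ne_top (top_le_iff.mp h1)
  exact ⟨⟨f, hfs⟩, hc' ⟨f, hfs⟩ p hf⟩

end Charts

section Tensor

theorem exists_prime_tensor {R : Type u} [CommRing R] (S₁ S₂ : Type u) [CommRing S₁] [CommRing S₂]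
    [Algebra R S₁] [Algebra R S₂] (p : PrimeSpectrum R)
    (h₁ : p ∈ Set.range (PrimeSpectrum.comap (algebraMap R S₁)))
    (h₂ : p ∈ Set.range (PrimeSpectrum.comap (algebraMap R S₂))) :
    p ∈ Set.range (PrimeSpectrum.comap (algebraMap R (S₁ ⊗[R] S₂))) := by
  obtain ⟨K, _, _, g₁, g₂, hk⟩ := exists_common_field S₁ S₂ p h₁ h₂
  let G : S₁ ⊗[R] S₂ →ₐ[R] K := Algebra.TensorProduct.lift g₁ g₂ (fun x y => Commute.all _ _)
  refine ⟨⟨RingHom.ker G, RingHom.ker_isPrime G⟩, ?_⟩
  apply PrimeSpectrum.ext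
  show Ideal.comap (algebraMap R (S₁ ⊗[R] S₂)) (RingHom.ker G) = p.asIdeal
  rw [← hk]
  ext r
  rw [Ideal.mem_comap, RingHom.mem_ker, RingHom.mem_ker, AlgHom.commutes]

lemma one_tmul_algebraMap' {R : Type u} [CommRing R] {T : Type u} [CommRing T] [Algebra R T]
    (X : Type u) [CommRing X] [Algebra R X] (r : R) :
    ((1 : T) ⊗ₜ[R] (algebraMap R X r) : T ⊗[R] X) =
      algebraMap T (T ⊗[R] X) (algebraMap R T r) := by
  rw [← Algebra.TensorProduct.tmul_one_eq_one_tmul, Algebra.TensorProduct.algebraMap_apply]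
  rfl

end Tensor

section Local

variable {R : Type u} [CommRing R] {A C : Type u} [CommRing A] [HopfAlgebra R A] [CommRing C]
  [HopfAlgebra R C] (φ : C →ₐc[R] A) (J : Ideal A) [J.IsHopfIdeal R]
  (hJ : J = Ideal.map φ (RingHom.ker (Bialgebra.counitAlgHom R C)))

include hJ in
lemma mk_phi (c : C) :
    Ideal.Quotient.mk J (φ c) = algebraMap R (A ⧸ J) (counit (R := R) c) := by
  have h1 : c - algebraMap R C (counit (R := R) c) ∈
      RingHom.ker (Bialgebra.counitAlgHom R C) := by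
    rw [RingHom.mem_ker, map_sub, AlgHom.commutes]
    simp
  have h2 : φ (c - algebraMap R C (counit (R := R) c)) ∈ J := by
    rw [hJ]
    exact Ideal.mem_map_of_mem φ h1
  have h3 := Ideal.Quotient.eq_zero_iff_mem.mpr h2
  rw [map_sub, map_sub, sub_eq_zero] at h3
  rw [h3, AlgHomClass.commutes φ]
  rfl

variable (hCft : Algebra.FiniteType R C)

include hJ hCft in
/-- Over a common chart of `A` and `C` the kernel is piecewise diagonalisable. -/
theorem exists_pieces_of_charts (S : Type u) [CommRing S] [Algebra R S]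
    (hdA : IsDiag S (S ⊗[R] A)) (hdC : IsDiag S (S ⊗[R] C)) :
    ∃ (Λ : Type u) (_ : Fintype Λ) (E : Λ → S), (∀ l, IsIdempotentElem (E l)) ∧
      (∀ 𝔮 : PrimeSpectrum S, ∃ l, E l ∉ 𝔮.asIdeal) ∧
      ∀ l, IsDiag (Pc (E l)) (Pc (E l) ⊗[R] (A ⧸ J)) := by
  by_cases hS : Nontrivial S
  swap
  · haveI : Subsingleton S := not_nontrivial_iff_subsingleton.mp hS
    refine ⟨PEmpty, inferInstance, fun l => l.elim, fun l => l.elim, ?_, fun l => l.elim⟩
    intro 𝔮
    exfalso
    apply 𝔮.isPrime.ne_top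
    rw [Ideal.eq_top_iff_one, Subsingleton.elim (1 : S) 0]
    exact zero_mem _
  obtain ⟨M, _, ⟨eA⟩⟩ := hdA
  obtain ⟨N, _, ⟨eC⟩⟩ := hdC
  have hN : Group.FG N := fg_of_chart eC hCft
  let q₀ : A →ₐc[R] A ⧸ J := Bialgebra.Quotient.mkBialgHom (R := R) J
  have hq₀ : ∀ a, q₀ a = Ideal.Quotient.mk J a := fun a => rfl
  let φS : MonoidAlgebra S N →ₐc[S] MonoidAlgebra S M :=
    ((eA : S ⊗[R] A →ₐc[S] MonoidAlgebra S M).comp
      (Bialgebra.TensorProduct.map (BialgHom.id S S) φ)).comp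
      (eC.symm : MonoidAlgebra S N →ₐc[S] S ⊗[R] C)
  let qS : MonoidAlgebra S M →ₐc[S] S ⊗[R] (A ⧸ J) :=
    (Bialgebra.TensorProduct.map (BialgHom.id S S) q₀).comp
      (eA.symm : MonoidAlgebra S M →ₐc[S] S ⊗[R] A)
  have hφS : ∀ x, φS x = eA (Bialgebra.TensorProduct.map (BialgHom.id S S) φ (eC.symm x)) :=
    fun x => rfl
  have hqS : ∀ x, qS x = Bialgebra.TensorProduct.map (BialgHom.id S S) q₀ (eA.symm x) :=
    fun x => rfl
  have hq₀s : Function.Surjective (Bialgebra.TensorProduct.map (BialgHom.id S S) q₀) := by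
    intro z
    induction z using TensorProduct.induction_on with
    | zero => exact ⟨0, map_zero _⟩
    | tmul r a =>
      obtain ⟨a', rfl⟩ := Ideal.Quotient.mk_surjective a
      exact ⟨r ⊗ₜ a', rfl⟩
    | add z w hz hw =>
      obtain ⟨z', rfl⟩ := hz
      obtain ⟨w', rfl⟩ := hw
      exact ⟨z' + w', map_add _ _ _⟩
  have hq : Function.Surjective qS := by
    intro y
    obtain ⟨x, rfl⟩ := hq₀s y
    exact ⟨eA x, by rw [hqS, BialgEquiv.symm_apply_apply]⟩
  have hK : ∀ v : S ⊗[R] C, Bialgebra.TensorProduct.map (BialgHom.id S S) q₀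
      (Bialgebra.TensorProduct.map (BialgHom.id S S) φ v) =
      algebraMap S (S ⊗[R] (A ⧸ J)) (counit (R := S) v) := by
    intro v
    induction v using TensorProduct.induction_on with
    | zero => simp
    | add x y hx hy => rw [map_add, map_add, hx, hy, map_add, map_add]
    | tmul s c =>
      have e1 : s ⊗ₜ[R] c = s • ((1 : S) ⊗ₜ[R] c) := by
        rw [TensorProduct.smul_tmul', smul_eq_mul, mul_one]
      have e2 : Bialgebra.TensorProduct.map (BialgHom.id S S) q₀
          (Bialgebra.TensorProduct.map (BialgHom.id S S) φ ((1 : S) ⊗ₜ[R] c)) =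
          (1 : S) ⊗ₜ[R] q₀ (φ c) := rfl
      have hL : Bialgebra.TensorProduct.map (BialgHom.id S S) q₀
          (Bialgebra.TensorProduct.map (BialgHom.id S S) φ (s ⊗ₜ[R] c)) =
          s • ((1 : S) ⊗ₜ[R] algebraMap R (A ⧸ J) (counit (R := R) c)) := by
        rw [e1, map_smul, map_smul, e2, hq₀, mk_phi φ J hJ]
      have hR : counit (R := S) (s ⊗ₜ[R] c) = s * algebraMap R S (counit (R := R) c) := by
        rw [e1, map_smul, counit_one_tmul, smul_eq_mul]
      rw [hL, hR, one_tmul_algebraMap', map_mul]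
      exact Algebra.smul_def s _
  have h1 : ∀ c' : MonoidAlgebra S N, counit (R := S) c' = 0 → qS (φS c') = 0 := by
    intro c' hc'
    rw [hqS, hφS, BialgEquiv.symm_apply_apply, hK, CoalgHomClass.counit_comp_apply, hc', map_zero]
  have h2 : RingHom.ker qS ≤
      Ideal.map φS (RingHom.ker (Bialgebra.counitAlgHom S (MonoidAlgebra S N))) := by
    intro z hz
    rw [RingHom.mem_ker, hqS] at hz
    obtain ⟨w, hw⟩ : ∃ w, w = eA.symm z := ⟨_, rfl⟩
    have hzw : z = eA w := by rw [hw, BialgEquiv.apply_symm_apply]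
    have hw0 : w ∈ RingHom.ker (Algebra.TensorProduct.map (AlgHom.id R S)
        (q₀ : A →ₐ[R] A ⧸ J)) := by
      rw [RingHom.mem_ker, hw]
      exact hz
    have hq₀surj : Function.Surjective (q₀ : A →ₐ[R] A ⧸ J) := Ideal.Quotient.mk_surjective
    rw [Algebra.TensorProduct.lTensor_ker _ hq₀surj] at hw0
    have hle : Ideal.map (Algebra.TensorProduct.includeRight : A →ₐ[R] S ⊗[R] A)
        (RingHom.ker (q₀ : A →ₐ[R] A ⧸ J)) ≤
        Ideal.comap (RingHomClass.toRingHom eA)
          (Ideal.map φS (RingHom.ker (Bialgebra.counitAlgHom S (MonoidAlgebra S N)))) := by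
      rw [Ideal.map_le_iff_le_comap]
      intro a ha
      have haJ : a ∈ J := by
        have h0 : q₀ a = 0 := ha
        exact Ideal.Quotient.eq_zero_iff_mem.mp h0
      rw [hJ] at haJ
      have hle2 : Ideal.map φ (RingHom.ker (Bialgebra.counitAlgHom R C)) ≤
          Ideal.comap (Algebra.TensorProduct.includeRight : A →ₐ[R] S ⊗[R] A)
            (Ideal.comap (RingHomClass.toRingHom eA)
              (Ideal.map φS (RingHom.ker (Bialgebra.counitAlgHom S (MonoidAlgebra S N))))) := by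
        rw [Ideal.map_le_iff_le_comap]
        intro c hc
        have hc' : counit (R := R) c = 0 := hc
        rw [Ideal.mem_comap, Ideal.mem_comap, Ideal.mem_comap]
        show eA ((1 : S) ⊗ₜ[R] φ c) ∈ _
        have e3 : eA ((1 : S) ⊗ₜ[R] φ c) = φS (eC ((1 : S) ⊗ₜ[R] c)) := by
          rw [hφS, BialgEquiv.symm_apply_apply]
          rfl
        rw [e3]
        apply Ideal.mem_map_of_mem
        rw [RingHom.mem_ker]
        show counit (R := S) (eC ((1 : S) ⊗ₜ[R] c)) = 0
        rw [CoalgHomClass.counit_comp_apply, counit_one_tmul, hc', map_zero]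
      exact hle2 haJ
    have h3 := hle hw0
    rw [Ideal.mem_comap] at h3
    rw [hzw]
    exact h3
  obtain ⟨Λ, hΛ, E, hEi, hEc, hEd⟩ := exists_pieces φS qS hN hq h1 h2
  exact ⟨Λ, hΛ, E, hEi, hEc, fun l => IsDiag.of_tower S (Pc (E l)) (hEd l)⟩

end Local

section Main

variable {R : Type u} [CommRing R] {A C : Type u} [CommRing A] [HopfAlgebra R A] [CommRing C]
  [HopfAlgebra R C]

/-- **Kernel of a homomorphism between groups of multiplicative type.** -/
theorem isMultType_kernel (hA : IsMultType R A) (hC : IsMultType R C)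
    (hCft : Algebra.FiniteType R C) (φ : C →ₐc[R] A) (J : Ideal A) [J.IsHopfIdeal R]
    (hJ : J = Ideal.map φ (RingHom.ker (Bialgebra.counitAlgHom R C))) :
    IsMultType R (A ⧸ J) := by
  classical
  obtain ⟨I, _, c, hc⟩ := exists_charts_spec hA
  obtain ⟨K, _, d, hd⟩ := exists_charts_spec hC
  have hP : ∀ ik : I × K, ∃ (Λ : Type u) (_ : Fintype Λ)
      (E : Λ → (c ik.1).S ⊗[R] (d ik.2).S), (∀ l, IsIdempotentElem (E l)) ∧
      (∀ 𝔮 : PrimeSpectrum ((c ik.1).S ⊗[R] (d ik.2).S), ∃ l, E l ∉ 𝔮.asIdeal) ∧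
      ∀ l, IsDiag (Pc (E l)) (Pc (E l) ⊗[R] (A ⧸ J)) := by
    intro ik
    apply exists_pieces_of_charts φ J hJ hCft ((c ik.1).S ⊗[R] (d ik.2).S)
    · exact IsDiag.of_tower (c ik.1).S ((c ik.1).S ⊗[R] (d ik.2).S)
        (IsDiag.baseChange (c ik.1).diag ((c ik.1).S ⊗[R] (d ik.2).S))
    · letI : Algebra (d ik.2).S ((c ik.1).S ⊗[R] (d ik.2).S) :=
        Algebra.TensorProduct.rightAlgebra
      haveI : IsScalarTower R (d ik.2).S ((c ik.1).S ⊗[R] (d ik.2).S) :=
        IsScalarTower.of_algebraMap_eq (fun r => by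
          rw [Algebra.TensorProduct.algebraMap_apply, Algebra.TensorProduct.tmul_one_eq_one_tmul]
          rfl)
      exact IsDiag.of_tower (d ik.2).S ((c ik.1).S ⊗[R] (d ik.2).S)
        (IsDiag.baseChange (d ik.2).diag ((c ik.1).S ⊗[R] (d ik.2).S))
  choose Λ hΛ E hEi hEc hEd using hP
  letI : ∀ ik, Fintype (Λ ik) := hΛ
  apply isMultType_of_charts (ι := Σ ik : I × K, Λ ik) (fun j => Pc (E j.1 j.2))
  · intro j
    haveI := flat_pc (hEi j.1 j.2)
    exact Module.Flat.trans R ((c j.1.1).S ⊗[R] (d j.1.2).S) (Pc (E j.1 j.2))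
  · intro p
    obtain ⟨i, hi⟩ := hc p
    obtain ⟨k, hk⟩ := hd p
    obtain ⟨𝔮, h𝔮⟩ := exists_prime_tensor (c i).S (d k).S p hi hk
    obtain ⟨l, hl⟩ := hEc (i, k) 𝔮
    obtain ⟨𝔯, h𝔯⟩ := mem_range_comap_pc (hEi (i, k) l) 𝔮 hl
    refine ⟨⟨(i, k), l⟩, 𝔯, ?_⟩
    rw [IsScalarTower.algebraMap_eq R ((c i).S ⊗[R] (d k).S) (Pc (E (i, k) l)),
      PrimeSpectrum.comap_comp_apply, h𝔯, h𝔮]
  · intro j
    exact hEd j.1 j.2

end Main

end Groth.Agent.Lib.Helper6.MTKer
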